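import Mathlib.LinearAlgebra.Matrix.Charpoly.Coeff
import Mathlib.LinearAlgebra.Matrix.SchurComplement
import Mathlib.LinearAlgebra.Matrix.ToLinearEquiv
import Mathlib.LinearAlgebra.TensorProduct.Tower
import Mathlib.RingTheory.TensorProduct.Maps
import Mathlib.RingTheory.TensorProduct.Finite
import Mathlib.RingTheory.Finiteness.Projective
import Mathlib.LinearAlgebra.FiniteDimensional.Basic

/-!
# Norms and characteristic polynomials for finite projective algebras
-/

set_option autoImplicit false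

universe u

open scoped TensorProduct
open Matrix

namespace Groth.Agent.CoactOrbit

variable (R A : Type u) [CommRing R] [CommRing A] [Algebra R A]

/-- A finite dual basis of a module. -/
structure Frame where
  /-- the number of generators -/
  n : ℕ
  /-- the generators -/
  a : Fin n → A
  /-- the coordinates -/
  φ : Fin n → A →ₗ[R] R
  sum_eq : ∀ x, ∑ i, φ i x • a i = x

theorem exists_frame [Module.Finite R A] [Module.Projective R A] : Nonempty (Frame R A) := by
  classical
  obtain ⟨n, f, g, -, -, hfg⟩ := Module.Finite.exists_comp_eq_id_of_projective R A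
  refine ⟨⟨n, fun i => f (Pi.single i 1), fun i => (LinearMap.proj i).comp g, fun x => ?_⟩⟩
  conv_rhs => rw [← LinearMap.id_apply (R := R) x, ← hfg, LinearMap.comp_apply, pi_eq_sum_univ' (g x), map_sum]
  exact Finset.sum_congr rfl fun i _ => (map_smul f _ _).symm

variable {R A} (F : Frame R A) {B B' : Type u} [CommRing B] [Algebra R B] [CommRing B'] [Algebra R B']

/-- The coordinates after base change. -/
noncomputable def Frame.c (i : Fin F.n) : B ⊗[R] A →ₗ[B] B :=
  (TensorProduct.AlgebraTensorModule.rid R B B).toLinearMap ∘ₗ (F.φ i).baseChange B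

theorem Frame.c_tmul (i : Fin F.n) (b : B) (x : A) : F.c i (b ⊗ₜ[R] x) = F.φ i x • b := by
  simp [Frame.c]

theorem Frame.c_map (f : B →ₐ[R] B') (i : Fin F.n) (y : B ⊗[R] A) :
    F.c i (Algebra.TensorProduct.map f (AlgHom.id R A) y) = f (F.c i y) := by
  induction y using TensorProduct.induction_on with
  | zero => simp
  | add p q hp hq => simp only [map_add, hp, hq]
  | tmul b x => rw [Algebra.TensorProduct.map_tmul, AlgHom.id_apply, Frame.c_tmul, Frame.c_tmul, map_smul]

theorem Frame.sum_c (y : B ⊗[R] A) : ∑ i, F.c i y • ((1 : B) ⊗ₜ[R] F.a i) = y := by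
  induction y using TensorProduct.induction_on with
  | zero => simp
  | add p q hp hq => simp only [map_add, add_smul, Finset.sum_add_distrib, hp, hq]
  | tmul b x =>
    simp only [F.c_tmul, TensorProduct.smul_tmul', smul_eq_mul, mul_one]
    rw [show ∑ i, (F.φ i x • b) ⊗ₜ[R] F.a i = b ⊗ₜ[R] ∑ i, F.φ i x • F.a i by
      rw [TensorProduct.tmul_sum]
      exact Finset.sum_congr rfl fun i _ => by rw [TensorProduct.smul_tmul], F.sum_eq]

/-- The matrix of the multiplication by an element. -/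
noncomputable def Frame.M (x : B ⊗[R] A) : Matrix (Fin F.n) (Fin F.n) B :=
  Matrix.of fun i j => F.c i (x * ((1 : B) ⊗ₜ[R] F.a j))

theorem Frame.M_add (x y : B ⊗[R] A) : F.M (x + y) = F.M x + F.M y := by
  ext i j; simp [Frame.M, add_mul]

theorem Frame.M_smul (b : B) (x : B ⊗[R] A) : F.M (b • x) = b • F.M x := by
  ext i j; simp [Frame.M, smul_mul_assoc]

theorem Frame.M_zero : F.M (0 : B ⊗[R] A) = 0 := by
  ext i j; simp [Frame.M]

theorem Frame.M_mul (x y : B ⊗[R] A) : F.M (x * y) = F.M x * F.M y := by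
  ext i j
  simp only [Frame.M, Matrix.mul_apply, Matrix.of_apply]
  conv_lhs => rw [mul_assoc, ← F.sum_c (y * ((1 : B) ⊗ₜ[R] F.a j))]
  simp [Finset.mul_sum, mul_smul_comm, mul_comm]

theorem Frame.M_map (f : B →ₐ[R] B') (x : B ⊗[R] A) :
    F.M (Algebra.TensorProduct.map f (AlgHom.id R A) x) = (F.M x).map f := by
  ext i j
  simp only [Frame.M, Matrix.map_apply, Matrix.of_apply]
  rw [← F.c_map]
  congr 1
  rw [map_mul (Algebra.TensorProduct.map f (AlgHom.id R A)), Algebra.TensorProduct.map_tmul, map_one, AlgHom.id_apply]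

theorem Frame.eq_zero_of_M_eq_zero {w : B ⊗[R] A} (h : F.M w = 0) : w = 0 := by
  have h1 : ∀ j, w * ((1 : B) ⊗ₜ[R] F.a j) = 0 := fun j => by
    rw [← F.sum_c (w * _)]
    refine Finset.sum_eq_zero fun i _ => ?_
    rw [show F.c i (w * ((1 : B) ⊗ₜ[R] F.a j)) = F.M w i j from rfl, h, Matrix.zero_apply, zero_smul]
  rw [← mul_one w, ← F.sum_c (1 : B ⊗[R] A), Finset.mul_sum]
  exact Finset.sum_eq_zero fun i _ => by rw [mul_smul_comm, h1, smul_zero]

/-- An automorphism conjugates the matrix. -/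
theorem Frame.exists_M_algEquiv (σ : (B ⊗[R] A) ≃ₐ[B] (B ⊗[R] A)) (x : B ⊗[R] A) :
    ∃ U V : Matrix (Fin F.n) (Fin F.n) B, F.M (σ x) = U * V ∧ F.M x = V * U := by
  refine ⟨Matrix.of fun i k => F.c i (σ ((1 : B) ⊗ₜ[R] F.a k)),
    Matrix.of fun k j => F.c k (x * σ.symm ((1 : B) ⊗ₜ[R] F.a j)), ?_, ?_⟩
  · ext i j
    simp only [Frame.M, Matrix.mul_apply, Matrix.of_apply]
    conv_lhs => rw [← σ.apply_symm_apply ((1 : B) ⊗ₜ[R] F.a j), ← map_mul,
      ← F.sum_c (x * σ.symm ((1 : B) ⊗ₜ[R] F.a j))]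
    simp [mul_comm]
  · ext i j
    simp only [Frame.M, Matrix.mul_apply, Matrix.of_apply]
    conv_lhs => rw [← σ.symm_apply_apply ((1 : B) ⊗ₜ[R] F.a j), ← F.sum_c (σ ((1 : B) ⊗ₜ[R] F.a j))]
    simp [Finset.mul_sum, mul_smul_comm, mul_comm]

/-- The norm. -/
noncomputable def Frame.norm (z : B ⊗[R] A) : B := (1 + F.M (z - 1)).det

theorem Frame.norm_map (f : B →ₐ[R] B') (z : B ⊗[R] A) :
    F.norm (Algebra.TensorProduct.map f (AlgHom.id R A) z) = f (F.norm z) := by
  rw [Frame.norm, Frame.norm, AlgHom.map_det, map_add, map_one,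
    show f.mapMatrix (F.M (z - 1)) = (F.M (z - 1)).map f from rfl, ← F.M_map, map_sub, map_one]

theorem Frame.norm_mul (z w : B ⊗[R] A) : F.norm (z * w) = F.norm z * F.norm w := by
  rw [Frame.norm, Frame.norm, Frame.norm, ← Matrix.det_mul]
  congr 1
  rw [show z * w - 1 = (z - 1) + (w - 1) + (z - 1) * (w - 1) by ring, F.M_add, F.M_add, F.M_mul]
  rw [add_mul, mul_add, mul_add, one_mul, mul_one, one_mul]
  abel

theorem Frame.norm_algEquiv (σ : (B ⊗[R] A) ≃ₐ[B] (B ⊗[R] A)) (z : B ⊗[R] A) : F.norm (σ z) = F.norm z := by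
  obtain ⟨U, V, h₁, h₂⟩ := F.exists_M_algEquiv σ (z - 1)
  rw [map_sub, map_one] at h₁
  rw [Frame.norm, Frame.norm, h₁, h₂, Matrix.det_one_add_mul_comm]

theorem Frame.norm_one : F.norm (1 : B ⊗[R] A) = 1 := by
  rw [Frame.norm, sub_self, F.M_zero, add_zero, Matrix.det_one]

theorem Frame.isUnit_norm {z : B ⊗[R] A} (hz : IsUnit z) : IsUnit (F.norm z) := by
  obtain ⟨w, hw⟩ := hz.exists_right_inv
  exact IsUnit.of_mul_eq_one (F.norm w) (by rw [← F.norm_mul, hw, F.norm_one])

theorem Frame.isUnit_of_norm_ne_zero {K : Type u} [Field K] [Algebra R K] [Module.Finite R A]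
    {z : K ⊗[R] A} (hz : F.norm z ≠ 0) : IsUnit z := by
  have hinj : Function.Injective (LinearMap.mulLeft K z) := by
    rw [← LinearMap.ker_eq_bot, LinearMap.ker_eq_bot']
    intro w hw
    rw [LinearMap.mulLeft_apply] at hw
    have hv : (1 + F.M (z - 1)) *ᵥ (fun i => F.c i w) = 0 := by
      rw [Matrix.add_mulVec, Matrix.one_mulVec]
      ext i
      simp only [Pi.add_apply, Pi.zero_apply, Matrix.mulVec, dotProduct, Frame.M, Matrix.of_apply]
      have e : ∑ j, F.c i ((z - 1) * ((1 : K) ⊗ₜ[R] F.a j)) * F.c j w = F.c i ((z - 1) * w) := by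
        conv_rhs => rw [← F.sum_c w]
        simp [Finset.mul_sum, mul_smul_comm, mul_comm]
      rw [e, sub_mul, hw, one_mul, zero_sub, map_neg, add_neg_cancel]
    have h0 : (fun i => F.c i w) = 0 := by
      by_contra hne
      exact hz (Matrix.exists_mulVec_eq_zero_iff.mp ⟨_, hne, hv⟩)
    rw [← F.sum_c w]
    exact Finset.sum_eq_zero fun i _ => by rw [congrFun h0 i, Pi.zero_apply, zero_smul]
  obtain ⟨w, hw⟩ := LinearMap.injective_iff_surjective.1 hinj 1
  exact IsUnit.of_mul_eq_one w hw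

/-- The characteristic polynomial. -/
noncomputable def Frame.cp (z : B ⊗[R] A) : Polynomial B := (F.M z).charpoly

theorem Frame.cp_map (f : B →ₐ[R] B') (z : B ⊗[R] A) :
    F.cp (Algebra.TensorProduct.map f (AlgHom.id R A) z) = (F.cp z).map f.toRingHom := by
  rw [Frame.cp, Frame.cp, F.M_map, ← Matrix.charpoly_map]
  rfl

theorem Frame.cp_algEquiv (σ : (B ⊗[R] A) ≃ₐ[B] (B ⊗[R] A)) (z : B ⊗[R] A) : F.cp (σ z) = F.cp z := by
  obtain ⟨U, V, h₁, h₂⟩ := F.exists_M_algEquiv σ z
  rw [Frame.cp, Frame.cp, h₁, h₂, Matrix.charpoly_mul_comm]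

theorem Frame.cp_monic (z : B ⊗[R] A) : (F.cp z).Monic := Matrix.charpoly_monic _

theorem Frame.aeval_cp (z : B ⊗[R] A) : Polynomial.aeval z (F.cp z) = 0 := by
  refine F.eq_zero_of_M_eq_zero ?_
  have key : ∀ P : Polynomial B, F.M (Polynomial.aeval z P) = F.M 1 * Polynomial.aeval (F.M z) P := by
    intro P
    induction P using Polynomial.induction_on' with
    | add p q hp hq => rw [map_add, map_add, F.M_add, hp, hq, mul_add]
    | monomial m b =>
      rw [Polynomial.aeval_monomial, Polynomial.aeval_monomial, ← Algebra.smul_def, ← Algebra.smul_def, F.M_smul,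
        mul_smul_comm]
      congr 1
      induction m with
      | zero => rw [pow_zero, pow_zero, mul_one]
      | succ k ih => rw [pow_succ, pow_succ, F.M_mul, ih, mul_assoc]
  rw [key, Frame.cp, Matrix.aeval_self_charpoly, mul_zero]

end Groth.Agent.CoactOrbit
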