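import Groth.Agent.CoactOrbit.Norm
import Groth.Prelude.Def_GLin
import Mathlib.RingTheory.HopfAlgebra.Basic
import Mathlib.RingTheory.HopfAlgebra.Convolution
import Mathlib.Algebra.MvPolynomial.Eval
import Mathlib.FieldTheory.IsAlgClosed.Basic
import Mathlib.RingTheory.Ideal.Operations
import Mathlib.FieldTheory.Fixed
import Mathlib.RingTheory.Finiteness.Finsupp

/-!
# Orbits of finite group schemes on affine schemes
-/

set_option autoImplicit false

universe u

open scoped TensorProduct

namespace Groth.Agent.CoactOrbit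

variable {R A B B' : Type u} [CommRing R] [CommRing A] [HopfAlgebra R A] [CommRing B] [Algebra R B] [CommRing B']
  [Algebra R B']

/-- The shear `1 ⊗ a ↦ h(a₁) ⊗ a₂`. -/
noncomputable def shear (h : A →ₐ[R] B') : B' ⊗[R] A →ₐ[B'] B' ⊗[R] A :=
  Algebra.TensorProduct.lift (Algebra.ofId B' _)
    ((Algebra.TensorProduct.map h (AlgHom.id R A)).comp (Bialgebra.comulAlgHom R A)) fun _ _ => .all _ _

theorem shear_tmul (h : A →ₐ[R] B') (b : B') (a : A) :
    shear h (b ⊗ₜ[R] a) = b • Algebra.TensorProduct.map h (AlgHom.id R A) (Coalgebra.comul (R := R) a) := by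
  rw [shear, Algebra.TensorProduct.lift_tmul, Algebra.smul_def]
  rfl

theorem shear_map {B'' : Type u} [CommRing B''] [Algebra R B''] (f : B' →ₐ[R] B'') (h : A →ₐ[R] B')
    (z : B' ⊗[R] A) : shear (f.comp h) (Algebra.TensorProduct.map f (AlgHom.id R A) z) =
      Algebra.TensorProduct.map f (AlgHom.id R A) (shear h z) := by
  induction z using TensorProduct.induction_on with
  | zero => simp
  | add p q hp hq => simp only [map_add, hp, hq]
  | tmul b a =>
    rw [Algebra.TensorProduct.map_tmul, AlgHom.id_apply, shear_tmul, shear_tmul]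
    induction Coalgebra.comul (R := R) a using TensorProduct.induction_on with
    | zero => simp
    | add p q hp hq => simp only [map_add, smul_add, hp, hq]
    | tmul x y =>
      simp [TensorProduct.smul_tmul']

theorem shear_comp (h h' k : A →ₐ[R] B')
    (hk : (Algebra.TensorProduct.lift h' h fun _ _ => .all _ _).comp (Bialgebra.comulAlgHom R A) = k) (z : B' ⊗[R] A) :
    shear h (shear h' z) = shear k z := by
  induction z using TensorProduct.induction_on with
  | zero => simp
  | add p q hp hq => simp only [map_add, hp, hq]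
  | tmul b a =>
    rw [shear_tmul, map_smul, shear_tmul]
    congr 1
    have key : ∀ w : A ⊗[R] A, shear h (Algebra.TensorProduct.map h' (AlgHom.id R A) w) =
        Algebra.TensorProduct.map (Algebra.TensorProduct.lift h' h fun _ _ => .all _ _) (AlgHom.id R A)
          ((TensorProduct.assoc R A A A).symm ((Coalgebra.comul (R := R)).lTensor A w)) := by
      intro w
      induction w using TensorProduct.induction_on with
      | zero => simp
      | add p q hp hq => simp only [map_add, hp, hq]
      | tmul p q =>
        rw [Algebra.TensorProduct.map_tmul, AlgHom.id_apply, shear_tmul, LinearMap.lTensor_tmul]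
        induction Coalgebra.comul (R := R) q using TensorProduct.induction_on with
        | zero => simp
        | add x y hx hy => simp only [map_add, TensorProduct.tmul_add, smul_add, hx, hy]
        | tmul x y => simp [TensorProduct.smul_tmul']
    rw [key, ← Coalgebra.coassoc_apply, LinearEquiv.symm_apply_apply, ← hk]
    induction Coalgebra.comul (R := R) a using TensorProduct.induction_on with
    | zero => simp
    | add p q hp hq => simp only [map_add, hp, hq]
    | tmul x y =>
      rw [LinearMap.rTensor_tmul, Algebra.TensorProduct.map_tmul, Algebra.TensorProduct.map_tmul, AlgHom.comp_apply]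
      rfl

theorem shear_one (z : B' ⊗[R] A) :
    shear ((Algebra.ofId R B').comp (Bialgebra.counitAlgHom R A)) z = z := by
  induction z using TensorProduct.induction_on with
  | zero => simp
  | add p q hp hq => simp only [map_add, hp, hq]
  | tmul b a =>
    have key : ∀ w : A ⊗[R] A, Algebra.TensorProduct.map ((Algebra.ofId R B').comp (Bialgebra.counitAlgHom R A))
        (AlgHom.id R A) w = (1 : B') ⊗ₜ[R] TensorProduct.lid R A ((Coalgebra.counit (R := R)).rTensor A w) := fun w => by
      induction w using TensorProduct.induction_on with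
      | zero => simp
      | add p q hp hq => simp only [map_add, TensorProduct.tmul_add, hp, hq]
      | tmul x y => simp [Algebra.algebraMap_eq_smul_one, TensorProduct.smul_tmul]
    rw [shear_tmul, key, Coalgebra.rTensor_counit_comul, TensorProduct.lid_tmul, one_smul, TensorProduct.smul_tmul',
      smul_eq_mul, mul_one]

theorem conv_antipode (h : A →ₐ[R] B') :
    (Algebra.TensorProduct.lift (h.comp (HopfAlgebra.antipodeAlgHom R A)) h fun _ _ => .all _ _).comp
        (Bialgebra.comulAlgHom R A) = (Algebra.ofId R B').comp (Bialgebra.counitAlgHom R A) ∧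
    (Algebra.TensorProduct.lift h (h.comp (HopfAlgebra.antipodeAlgHom R A)) fun _ _ => .all _ _).comp
        (Bialgebra.comulAlgHom R A) = (Algebra.ofId R B').comp (Bialgebra.counitAlgHom R A) := by
  constructor
  · refine AlgHom.ext fun a => ?_
    show _ = algebraMap R B' (Coalgebra.counit (R := R) a)
    rw [← h.commutes, ← HopfAlgebra.mul_antipode_rTensor_comul_apply (R := R) a, AlgHom.comp_apply,
      Bialgebra.comulAlgHom_apply]
    induction Coalgebra.comul (R := R) a using TensorProduct.induction_on with
    | zero => simp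
    | add p q hp hq => simp only [map_add, hp, hq]
    | tmul x y => simp
  · refine AlgHom.ext fun a => ?_
    show _ = algebraMap R B' (Coalgebra.counit (R := R) a)
    rw [← h.commutes, ← HopfAlgebra.mul_antipode_lTensor_comul_apply (R := R) a, AlgHom.comp_apply,
      Bialgebra.comulAlgHom_apply]
    induction Coalgebra.comul (R := R) a using TensorProduct.induction_on with
    | zero => simp
    | add p q hp hq => simp only [map_add, hp, hq]
    | tmul x y => simp

/-- The shear as an automorphism. -/
noncomputable def shearEquiv (h : A →ₐ[R] B') : (B' ⊗[R] A) ≃ₐ[B'] (B' ⊗[R] A) :=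
  AlgEquiv.ofBijective (shear h) (Function.bijective_iff_has_inverse.2
    ⟨shear (h.comp (HopfAlgebra.antipodeAlgHom R A)),
      fun z => by rw [shear_comp _ _ _ (conv_antipode h).2, shear_one],
      fun z => by rw [shear_comp _ _ _ (conv_antipode h).1, shear_one]⟩)

variable [HopfRep.Comod R A B] [GLin.IsCoactAlg R A B]

/-- The iterated coaction is a shear. -/
theorem coact_coact (f : B) :
    Algebra.TensorProduct.map (GLin.coactAlgHom R A B) (AlgHom.id R A) (GLin.coactAlgHom R A B f) =
      shear (Algebra.TensorProduct.includeRight : A →ₐ[R] B ⊗[R] A)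
        (Algebra.TensorProduct.map (Algebra.TensorProduct.includeLeft : B →ₐ[R] B ⊗[R] A) (AlgHom.id R A)
          (GLin.coactAlgHom R A B f)) := by
  have hc := LinearMap.congr_fun (HopfRep.Comod.coassoc (k := R) (A := A) (V := B)) f
  simp only [LinearMap.comp_apply, LinearEquiv.coe_coe] at hc
  have h1 : ∀ z : B ⊗[R] A, Algebra.TensorProduct.map (GLin.coactAlgHom R A B) (AlgHom.id R A) z =
      (HopfRep.Comod.coact (k := R) (A := A)).rTensor A z := fun z => by
    induction z using TensorProduct.induction_on with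
    | zero => simp
    | tmul p q => simp [GLin.coactAlgHom_apply]
    | add p q hp hq => simp only [map_add, hp, hq]
  have h2 : ∀ z : B ⊗[R] A, shear (Algebra.TensorProduct.includeRight : A →ₐ[R] B ⊗[R] A)
      (Algebra.TensorProduct.map (Algebra.TensorProduct.includeLeft : B →ₐ[R] B ⊗[R] A) (AlgHom.id R A) z) =
      (TensorProduct.assoc R B A A).symm ((CoalgebraStruct.comul (R := R)).lTensor B z) := fun z => by
    induction z using TensorProduct.induction_on with
    | zero => simp
    | add p q hp hq => simp only [map_add, hp, hq]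
    | tmul p q =>
      rw [LinearMap.lTensor_tmul, Algebra.TensorProduct.map_tmul, AlgHom.id_apply, shear_tmul]
      induction CoalgebraStruct.comul (R := R) q using TensorProduct.induction_on with
      | zero => simp
      | tmul x y => simp [TensorProduct.smul_tmul']
      | add x y hx hy => simp only [map_add, TensorProduct.tmul_add, smul_add, hx, hy]
  rw [h1, h2, GLin.coactAlgHom_apply, ← hc, LinearEquiv.symm_apply_apply]

variable (F : Frame R A)

theorem coeff_cp_mem (f : B) (i : ℕ) : (F.cp (GLin.coactAlgHom R A B f)).coeff i ∈ GLin.invariants R A B := by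
  have h : (F.cp (GLin.coactAlgHom R A B f)).map (GLin.coactAlgHom R A B).toRingHom =
      (F.cp (GLin.coactAlgHom R A B f)).map
        (Algebra.TensorProduct.includeLeft : B →ₐ[R] B ⊗[R] A).toRingHom := by
    rw [← F.cp_map, ← F.cp_map, coact_coact]
    exact F.cp_algEquiv (shearEquiv _) _
  have h2 := congrArg (fun P => Polynomial.coeff P i) h
  simp only [Polynomial.coeff_map] at h2
  exact (GLin.mem_invariants_iff R A B _).mpr h2

theorem counit_coact (f : B) :
    Algebra.TensorProduct.lift (AlgHom.id R B) ((Algebra.ofId R B).comp (Bialgebra.counitAlgHom R A))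
      (fun _ _ => .all _ _) (GLin.coactAlgHom R A B f) = f := by
  have h2 := congrArg (TensorProduct.rid R B)
    (LinearMap.congr_fun (HopfRep.Comod.counit_comp (k := R) (A := A) (V := B)) f)
  simp only [LinearMap.comp_apply, LinearMap.flip_apply, TensorProduct.mk_apply, TensorProduct.rid_tmul, one_smul] at h2
  refine Eq.trans ?_ h2
  rw [GLin.coactAlgHom_apply]
  induction HopfRep.Comod.coact (k := R) (A := A) f using TensorProduct.induction_on with
  | zero => simp
  | tmul p q => simp [Algebra.smul_def, mul_comm]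
  | add p q hp hq => simp only [map_add, hp, hq]

theorem eval_cp_eq_zero {S : Type u} [CommRing S] [Algebra R S] (ev : S ⊗[R] A →ₐ[S] S) (z : S ⊗[R] A) :
    (F.cp z).eval (ev z) = 0 := by
  rw [← Polynomial.coe_aeval_eq_eval, Polynomial.aeval_algHom_apply, F.aeval_cp, map_zero]

theorem eval_cp_coact (f : B) : (F.cp (GLin.coactAlgHom R A B f)).eval f = 0 := by
  have h := eval_cp_eq_zero F (Algebra.TensorProduct.lift (AlgHom.id B B)
    ((Algebra.ofId R B).comp (Bialgebra.counitAlgHom R A)) (fun _ _ => .all _ _)) (GLin.coactAlgHom R A B f)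
  have e := counit_coact (R := R) (A := A) f
  exact (congrArg (fun t => (F.cp (GLin.coactAlgHom R A B f)).eval t) e).symm.trans h

/-- An affine scheme is integral over the invariants of a finite group scheme. -/
theorem isIntegral_invariants [Module.Finite R A] [Module.Projective R A] :
    Algebra.IsIntegral (GLin.invariants R A B) B := by
  obtain ⟨F⟩ := exists_frame R A
  refine ⟨fun f => ?_⟩
  have hl : F.cp (GLin.coactAlgHom R A B f) ∈ Polynomial.lifts (GLin.invariants R A B).val.toRingHom :=
    (Polynomial.lifts_iff_coeff_lifts _).mpr fun i => ⟨⟨_, coeff_cp_mem F f i⟩, rfl⟩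
  rcases subsingleton_or_nontrivial B with hB | hB
  · exact ⟨Polynomial.X, Polynomial.monic_X, Subsingleton.elim _ _⟩
  obtain ⟨q, hq, -, hqm⟩ := Polynomial.lifts_and_degree_eq_and_monic hl (F.cp_monic _)
  refine ⟨q, hqm, ?_⟩
  rw [← Polynomial.eval_map]
  refine (congrArg (Polynomial.eval f) hq).trans ?_
  exact eval_cp_coact F f

theorem exists_tmul_eq_sum {K : Type u} [CommRing K] [Algebra R K] (z : K ⊗[R] B) :
    ∃ (m : ℕ) (c : Fin m → K) (b : Fin m → B), z = ∑ j, c j ⊗ₜ[R] b j := by
  induction z using TensorProduct.induction_on with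
  | zero => exact ⟨0, Fin.elim0, Fin.elim0, by simp⟩
  | tmul x y => exact ⟨1, ![x], ![y], by simp⟩
  | add p q hp hq =>
    obtain ⟨m, c, b, rfl⟩ := hp
    obtain ⟨m', c', b', rfl⟩ := hq
    exact ⟨m + m', Fin.append c c', Fin.append b b', by simp [Fin.sum_univ_add]⟩

theorem map_smul_left {B'' : Type u} [CommRing B''] [Algebra R B''] (q : B' →ₐ[R] B'') (s : B') (w : B' ⊗[R] A) :
    Algebra.TensorProduct.map q (AlgHom.id R A) (s • w) = q s • Algebra.TensorProduct.map q (AlgHom.id R A) w := by
  induction w using TensorProduct.induction_on with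
  | zero => simp
  | add x y hx hy => simp only [map_add, smul_add, hx, hy]
  | tmul x y => simp [TensorProduct.smul_tmul']

theorem map_map_left {B₀ B'' : Type u} [CommRing B₀] [Algebra R B₀] [CommRing B''] [Algebra R B'']
    (q : B' →ₐ[R] B'') (r : B₀ →ₐ[R] B') (w : B₀ ⊗[R] A) :
    Algebra.TensorProduct.map q (AlgHom.id R A) (Algebra.TensorProduct.map r (AlgHom.id R A) w) =
      Algebra.TensorProduct.map (q.comp r) (AlgHom.id R A) w := by
  induction w using TensorProduct.induction_on with
  | zero => simp
  | add x y hx hy => simp only [map_add, hx, hy]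
  | tmul x y => simp

/-- The norm of a generic combination of coactions has invariant coefficients. -/
theorem exists_generic_norm {K : Type u} [CommRing K] [Algebra R K] (F : Frame R A) {m : ℕ} (b : Fin m → B) :
    ∃ Q : MvPolynomial (Fin m) B, (∀ d, MvPolynomial.coeff d Q ∈ GLin.invariants R A B) ∧
      ∀ (x : B →ₐ[R] K) (c : Fin m → K),
        F.norm (∑ j, c j • Algebra.TensorProduct.map x (AlgHom.id R A) (GLin.coactAlgHom R A B (b j))) =
          MvPolynomial.aevalTower x c Q := by
  classical
  let Cb : B →ₐ[R] MvPolynomial (Fin m) B := IsScalarTower.toAlgHom R B _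
  let zT : MvPolynomial (Fin m) B ⊗[R] A := ∑ j, (MvPolynomial.X j : MvPolynomial (Fin m) B) •
    Algebra.TensorProduct.map Cb (AlgHom.id R A) (GLin.coactAlgHom R A B (b j))
  let mρ : MvPolynomial (Fin m) B →ₐ[R] MvPolynomial (Fin m) (B ⊗[R] A) :=
    MvPolynomial.mapAlgHom (GLin.coactAlgHom R A B)
  let mι : MvPolynomial (Fin m) B →ₐ[R] MvPolynomial (Fin m) (B ⊗[R] A) :=
    MvPolynomial.mapAlgHom (Algebra.TensorProduct.includeLeft : B →ₐ[R] B ⊗[R] A)
  let C' : B ⊗[R] A →ₐ[R] MvPolynomial (Fin m) (B ⊗[R] A) := IsScalarTower.toAlgHom R (B ⊗[R] A) _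
  have hP : mρ (F.norm zT) = mι (F.norm zT) := by
    rw [← F.norm_map, ← F.norm_map, ← F.norm_algEquiv
      (shearEquiv (C'.comp (Algebra.TensorProduct.includeRight : A →ₐ[R] B ⊗[R] A)))
      (Algebra.TensorProduct.map mι (AlgHom.id R A) zT)]
    congr 1
    simp only [zT, map_sum]
    refine Finset.sum_congr rfl fun j _ => ?_
    rw [map_smul_left, map_smul_left, map_smul, map_map_left, map_map_left,
      show mρ (MvPolynomial.X j) = MvPolynomial.X j from MvPolynomial.map_X _ j,
      show mι (MvPolynomial.X j) = MvPolynomial.X j from MvPolynomial.map_X _ j,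
      show mρ.comp Cb = C'.comp (GLin.coactAlgHom R A B) from AlgHom.ext fun x => MvPolynomial.map_C _ x,
      show mι.comp Cb = C'.comp (Algebra.TensorProduct.includeLeft : B →ₐ[R] B ⊗[R] A) from
        AlgHom.ext fun x => MvPolynomial.map_C _ x,
      ← map_map_left, ← map_map_left, coact_coact, ← shear_map]
    rfl
  refine ⟨F.norm zT, fun d => ?_, fun x c => ?_⟩
  · have e := congrArg (MvPolynomial.coeff d) hP
    simp only [mρ, mι, MvPolynomial.mapAlgHom_apply, MvPolynomial.coeff_map] at e
    exact (GLin.mem_invariants_iff R A B _).mpr e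
  · rw [← F.norm_map]
    congr 1
    simp only [zT, map_sum]
    refine Finset.sum_congr rfl fun j _ => ?_
    rw [map_smul_left, map_map_left, MvPolynomial.aevalTower_X,
      show (MvPolynomial.aevalTower x c).comp Cb = x from AlgHom.ext fun r => MvPolynomial.aevalTower_C x c r]

/-- Geometric points with the same image in the quotient lie in one orbit. -/
theorem exists_orbit [Module.Finite R A] [Module.Projective R A] {K : Type u} [Field K] [IsAlgClosed K] [Algebra R K]
    (x₁ x₂ : B →ₐ[R] K) (h : ∀ c ∈ GLin.invariants R A B, x₁ c = x₂ c) :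
    ∃ g : A →ₐ[R] K, x₂ = (Algebra.TensorProduct.lift x₁ g fun _ _ => .all _ _).comp (GLin.coactAlgHom R A B) := by
  classical
  obtain ⟨F⟩ := exists_frame R A
  by_contra hne
  simp only [not_exists] at hne
  let orb : (A →ₐ[R] K) → (B →ₐ[R] K) := fun g =>
    (Algebra.TensorProduct.lift x₁ g fun _ _ => .all _ _).comp (GLin.coactAlgHom R A B)
  haveI : Finite (A →ₐ[R] K) := Finite.of_injective
    (fun g : A →ₐ[R] K => Algebra.TensorProduct.lift (AlgHom.id K K) g (fun _ _ => .all _ _))
    fun g g' hgg => AlgHom.ext fun a => by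
      simpa using congrArg (fun φ : K ⊗[R] A →ₐ[K] K => φ ((1 : K) ⊗ₜ[R] a)) hgg
  letI := Fintype.ofFinite (A →ₐ[R] K)
  let ext' : (B →ₐ[R] K) → (K ⊗[R] B →ₐ[K] K) := fun x =>
    Algebra.TensorProduct.lift (AlgHom.id K K) x (fun _ _ => .all _ _)
  have hmax : ∀ x, (RingHom.ker (ext' x)).IsMaximal := fun x =>
    RingHom.ker_isMaximal_of_surjective _ fun k => ⟨algebraMap K _ k, (ext' x).commutes k⟩
  have hsep : ∀ x y, RingHom.ker (ext' x) ≤ RingHom.ker (ext' y) → x = y := fun x y hxy => AlgHom.ext fun b => by
    have hm : ((1 : K) ⊗ₜ[R] b - algebraMap K (K ⊗[R] B) (x b)) ∈ RingHom.ker (ext' x) := by simp [ext']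
    have h2 := hxy hm
    rw [RingHom.mem_ker, map_sub, AlgHom.commutes] at h2
    simp [ext'] at h2
    exact (sub_eq_zero.1 h2).symm
  obtain ⟨z, hz₂, hz₁⟩ : ∃ z, ext' x₂ z = 0 ∧ ∀ g, ext' (orb g) z ≠ 0 := by
    by_contra hno
    simp only [not_exists, not_and, not_forall, not_not] at hno
    have hsub : (RingHom.ker (ext' x₂) : Set (K ⊗[R] B)) ⊆
        ⋃ g ∈ (↑(Finset.univ : Finset (A →ₐ[R] K)) : Set (A →ₐ[R] K)), (RingHom.ker (ext' (orb g)) : Set (K ⊗[R] B)) := by
      intro z hz
      obtain ⟨g, hg⟩ := hno z hz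
      exact Set.mem_iUnion₂.2 ⟨g, Finset.mem_univ g, hg⟩
    by_cases hG : Nonempty (A →ₐ[R] K)
    · obtain ⟨g₀⟩ := hG
      obtain ⟨g, -, hg⟩ := (Ideal.subset_union_prime (f := fun g => RingHom.ker (ext' (orb g))) g₀ g₀
        (fun i _ _ _ => (hmax _).isPrime)).1 hsub
      exact hne g (hsep _ _ hg)
    · obtain ⟨g, -⟩ := hno 0 (map_zero _)
      exact hG ⟨g⟩
  obtain ⟨m, c, b, rfl⟩ := exists_tmul_eq_sum z
  obtain ⟨Q, hinv, hev⟩ := exists_generic_norm (A := A) (B := B) (K := K) F b
  let y : (B →ₐ[R] K) → K ⊗[R] A := fun x =>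
    ∑ j, c j • Algebra.TensorProduct.map x (AlgHom.id R A) (GLin.coactAlgHom R A B (b j))
  have heq : F.norm (y x₁) = F.norm (y x₂) := by
    rw [hev, hev, Q.as_sum, map_sum, map_sum]
    refine Finset.sum_congr rfl fun d _ => ?_
    simp only [MvPolynomial.monomial_eq, map_mul, map_finsuppProd, map_pow, MvPolynomial.aevalTower_X,
      MvPolynomial.aevalTower_C, h _ (hinv d)]
  have hlift : ∀ (x : B →ₐ[R] K) (g : A →ₐ[R] K),
      Algebra.TensorProduct.lift (AlgHom.id K K) g (fun _ _ => .all _ _) (y x) =
        ∑ j, c j * Algebra.TensorProduct.lift x g (fun _ _ => .all _ _) (GLin.coactAlgHom R A B (b j)) := by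
    intro x g
    simp only [y, map_sum, map_smul, smul_eq_mul]
    refine Finset.sum_congr rfl fun j _ => congrArg (c j * ·) ?_
    induction GLin.coactAlgHom R A B (b j) using TensorProduct.induction_on with
    | zero => simp
    | add p q hp hq => simp only [map_add, hp, hq]
    | tmul p q => simp
  have h2 : F.norm (y x₂) = 0 := by
    by_contra hN
    have := (F.isUnit_of_norm_ne_zero hN).map (Algebra.TensorProduct.lift (AlgHom.id K K)
      ((Algebra.ofId R K).comp (Bialgebra.counitAlgHom R A)) (fun _ _ => .all _ _))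
    rw [hlift] at this
    refine this.ne_zero ?_
    rw [← hz₂]
    simp only [ext', map_sum, Algebra.TensorProduct.lift_tmul, AlgHom.id_apply]
    refine Finset.sum_congr rfl fun j _ => congrArg (c j * ·) ?_
    conv_rhs => rw [← counit_coact (R := R) (A := A) (b j)]
    induction GLin.coactAlgHom R A B (b j) using TensorProduct.induction_on with
    | zero => simp
    | add p q hp hq => simp only [map_add, hp, hq]
    | tmul p q => simp
  have h1 : ¬ IsUnit (y x₁) := fun hu => (F.isUnit_norm hu).ne_zero (heq.trans h2)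
  obtain ⟨m', hm', hym⟩ := exists_max_ideal_of_mem_nonunits h1
  letI : Field ((K ⊗[R] A) ⧸ m') := Ideal.Quotient.field m'
  haveI : Algebra.IsAlgebraic K ((K ⊗[R] A) ⧸ m') := Algebra.IsAlgebraic.of_finite K _
  let π : K ⊗[R] A →ₐ[K] K := (IsAlgClosed.lift : ((K ⊗[R] A) ⧸ m') →ₐ[K] K).comp (Ideal.Quotient.mkₐ K m')
  let g : A →ₐ[R] K := (π.restrictScalars R).comp Algebra.TensorProduct.includeRight
  have hπ : π = Algebra.TensorProduct.lift (AlgHom.id K K) g (fun _ _ => .all _ _) :=
    Algebra.TensorProduct.ext (Subsingleton.elim _ _) (AlgHom.ext fun a => by simp [g])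
  refine hz₁ g ?_
  have hy0 : π (y x₁) = 0 := by
    show IsAlgClosed.lift (R := K) (Ideal.Quotient.mk m' (y x₁)) = 0
    rw [Ideal.Quotient.eq_zero_iff_mem.2 hym, map_zero]
  rw [hπ, hlift] at hy0
  rw [← hy0]
  simp [ext', orb]

end Groth.Agent.CoactOrbit
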