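import Groth.Agent.CoactOrbit.Stab
import Mathlib.AlgebraicGeometry.Morphisms.Flat
import Mathlib.AlgebraicGeometry.Morphisms.FinitePresentation
import Mathlib.AlgebraicGeometry.PullbackCarrier

/-!
# Freeness over the quotient
-/

set_option autoImplicit false
set_option backward.isDefEq.respectTransparency.types false

universe u

open CategoryTheory CategoryTheory.Limits MonoidalCategory CartesianMonoidalCategory MonObj AlgebraicGeometry

noncomputable section

namespace Groth.Agent.CoactOrbit

open Groth.Agent.SekSuwaLib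

variable {R A B K : Type u} [CommRing R] [CommRing A] [HopfAlgebra R A] [Module.Finite R A] [CommRing B]
  [Algebra R B] [HopfRep.Comod R A B] [GLin.IsCoactAlg R A B]

theorem ker_residueField (m : Ideal B) [m.IsPrime] :
    RingHom.ker ((IsScalarTower.toAlgHom R B m.ResidueField).comp (GLin.invariants R A B).val).toRingHom =
      m.comap (GLin.invariants R A B).val.toRingHom :=
  (RingHom.comap_ker (algebraMap B m.ResidueField) (GLin.invariants R A B).val.toRingHom).symm.trans
    (by rw [Ideal.ker_algebraMap_residueField])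

theorem ker_comap_maximal [IsLocalRing R] [Module.Projective R A] [Field K] [Algebra R K]
    (hC : Function.Bijective (algebraMap R (GLin.invariants R A B)))
    (hK : RingHom.ker (algebraMap R K) = IsLocalRing.maximalIdeal R) (x : B →ₐ[R] K) (M' : Ideal B) [hM' : M'.IsMaximal] :
    RingHom.ker (x.comp (GLin.invariants R A B).val).toRingHom =
      RingHom.ker ((IsScalarTower.toAlgHom R B M'.ResidueField).comp (GLin.invariants R A B).val).toRingHom := by
  haveI := isIntegral_invariants (R := R) (A := A) (B := B)
  haveI hmax : (M'.comap (GLin.invariants R A B).val.toRingHom).IsMaximal :=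
    Ideal.isMaximal_comap_of_isIntegral_of_isMaximal' _
      (show (GLin.invariants R A B).val.toRingHom.IsIntegral from Algebra.IsIntegral.isIntegral) M'
  rw [ker_residueField]
  ext c
  obtain ⟨r, rfl⟩ := hC.2 c
  haveI : ((M'.comap (GLin.invariants R A B).val.toRingHom).comap (algebraMap R (GLin.invariants R A B))).IsMaximal :=
    Ideal.comap_isMaximal_of_surjective _ hC.2
  rw [← Ideal.mem_comap (f := algebraMap R (GLin.invariants R A B)) (K := M'.comap _),
    IsLocalRing.eq_maximalIdeal this, ← hK, RingHom.mem_ker, RingHom.mem_ker]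
  show (x.comp (GLin.invariants R A B).val) (algebraMap R _ r) = 0 ↔ _
  rw [AlgHom.commutes]

/-- Over a local base, an action with trivial inertia at a closed point is free. -/
theorem free_of_isLocalRing [IsLocalRing R] [Module.Projective R A] [Field K] [Algebra R K]
    (hC : Function.Bijective (algebraMap R (GLin.invariants R A B)))
    (hK : RingHom.ker (algebraMap R K) = IsLocalRing.maximalIdeal R) (x : B →ₐ[R] K) (hx : SFreeAt A x)
    (T : Over (Spec (CommRingCat.of R))) (ζ : T ⟶ CoactBr.sp R B) (g : T ⟶ CoactBr.sp R A)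
    (hg : lift g ζ ≫ (CoactBr.action R A B).act = ζ) : g = 1 := by
  obtain ⟨Z, hZ, hfree, hopen⟩ := exists_inertia_locus (R := R) (A := A) (B := B)
  refine hopen 1 (fun m hm => ?_) T ζ (by rw [map_one]; exact isUnit_one) g hg
  exfalso
  obtain ⟨M', hM', hle⟩ := Ideal.exists_le_maximal m.asIdeal m.2.ne_top
  have hmem : (⟨M', hM'.isPrime⟩ : PrimeSpectrum B) ∈ Z :=
    ((PrimeSpectrum.le_iff_specializes m ⟨M', hM'.isPrime⟩).1 hle).mem_closed hZ hm
  haveI : M'.IsPrime := hM'.isPrime
  have hfree' := hfree ⟨M', hM'.isPrime⟩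
  have hs : SFreeAt A (IsScalarTower.toAlgHom R B M'.ResidueField) := by
    refine sfreeAt_transfer (A := A) (K₁ := K) (K₂ := M'.ResidueField) (x₁ := x) ?_ hx
    exact ker_comap_maximal hC hK x M'
  exact hfree' (sfreeAt_iff.1 hs) hmem

variable [Module.Projective R A] [Field K] [Algebra R K]

/-- Trivial inertia at a point means freeness over a flat neighbourhood of its image in the quotient. -/
theorem sfreeAt_iff_exists_flat_free (x : B →ₐ[R] K) :
    SFreeAt A x ↔
      ∃ (Y' : Scheme.{u}) (c : Y' ⟶ Spec (CommRingCat.of (GLin.invariants R A B))),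
        Flat c ∧ LocallyOfFinitePresentation c ∧
        (∃ y' : Y', c.base y' =
          (Spec.map (CommRingCat.ofHom (x.toRingHom.comp (GLin.invariants R A B).val.toRingHom))).base
            (IsLocalRing.closedPoint K)) ∧
        ∀ (T : Over (Spec (CommRingCat.of R))) (ζ : T ⟶ CoactBr.sp R B),
          (∃ t : T.left ⟶ Y', t ≫ c = ζ.left ≫ Spec.map (CommRingCat.ofHom (GLin.invariants R A B).val.toRingHom)) →
          ∀ g : T ⟶ CoactBr.sp R A, lift g ζ ≫ (CoactBr.action R A B).act = ζ → g = 1 := by
  let C := GLin.invariants R A B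
  constructor
  · intro hx
    obtain ⟨Z, hZ, hfree, hopen⟩ := exists_inertia_locus (R := R) (A := A) (B := B)
    haveI := isIntegral_invariants (R := R) (A := A) (B := B)
    have hint : C.val.toRingHom.IsIntegral := Algebra.IsIntegral.isIntegral
    let y : PrimeSpectrum C := ⟨RingHom.ker (x.comp C.val).toRingHom, RingHom.ker_isPrime _⟩
    have hy : y ∉ PrimeSpectrum.comap C.val.toRingHom '' Z := by
      rintro ⟨m, hm, e⟩
      refine hfree m (sfreeAt_iff.1 (sfreeAt_transfer ?_ hx)) hm
      rw [ker_residueField]
      exact (congrArg PrimeSpectrum.asIdeal e).symm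
    obtain ⟨_, ⟨c, rfl⟩, hyc, hcZ⟩ := PrimeSpectrum.isTopologicalBasis_basic_opens.exists_subset_of_mem_open
      (show y ∈ (PrimeSpectrum.comap C.val.toRingHom '' Z)ᶜ from hy)
      (PrimeSpectrum.isClosedMap_comap_of_isIntegral _ hint Z hZ).isOpen_compl
    refine ⟨Spec (CommRingCat.of (Localization.Away c)),
      Spec.map (CommRingCat.ofHom (algebraMap C (Localization.Away c))), inferInstance, inferInstance, ?_, ?_⟩
    · obtain ⟨q, hq⟩ : y ∈ Set.range (PrimeSpectrum.comap (algebraMap C (Localization.Away c))) := by
        rw [PrimeSpectrum.localization_away_comap_range (Localization.Away c) c]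
        exact hyc
      refine ⟨q, hq.trans (PrimeSpectrum.ext ?_)⟩
      show RingHom.ker (x.comp C.val).toRingHom =
        Ideal.comap (x.toRingHom.comp C.val.toRingHom) (IsLocalRing.closedPoint K).asIdeal
      rw [show (IsLocalRing.closedPoint K).asIdeal = IsLocalRing.maximalIdeal K from rfl, IsLocalRing.maximalIdeal_eq_bot]
      rfl
    · rintro T ζ ⟨t, ht⟩ g hg
      refine hopen (c : B) (fun m hm => ?_) T ζ ?_ g hg
      · rw [PrimeSpectrum.mem_zeroLocus, Set.singleton_subset_iff]
        by_contra hcm
        exact hcZ (show PrimeSpectrum.comap C.val.toRingHom m ∈ PrimeSpectrum.basicOpen c from hcm) ⟨m, hm, rfl⟩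
      · have e := congrArg (fun f : T.left ⟶ Spec (CommRingCat.of C) =>
          (ConcreteCategory.hom ((Scheme.ΓSpecIso (CommRingCat.of C)).inv ≫ f.appTop)) c) ht
        simp only [appTop_comp_SpecMap] at e
        show IsUnit (ptRingHom ζ (C.val c))
        have e2 := congrArg (fun ψ => (ConcreteCategory.hom ψ) c) (appTop_comp_SpecMap ζ.left C.val.toRingHom)
        refine (congrArg IsUnit (e.trans e2)).mp ?_
        exact ((IsLocalization.Away.algebraMap_isUnit (S := Localization.Away c) c).map
          ((Scheme.ΓSpecIso (CommRingCat.of (Localization.Away c))).inv ≫ t.appTop).hom)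
  · rintro ⟨Y', c, hflat, -, ⟨y', hy'⟩, H⟩ T h g hg
    let p := (h ≫ CoactBr.pt x).left ≫ Spec.map (CommRingCat.ofHom C.val.toRingHom)
    let T' : Over (Spec (CommRingCat.of R)) := Over.mk (pullback.fst p c ≫ T.hom)
    let π : T' ⟶ T := Over.homMk (pullback.fst p c) rfl
    haveI : Surjective (pullback.fst p c) := ⟨fun z => by
      show z ∈ Set.range (pullback.fst p c).base
      rw [Scheme.Pullback.range_fst]
      refine ⟨y', hy'.trans ?_⟩
      show (Spec.map _).base _ = ((h.left ≫ (CoactBr.pt x).left) ≫ Spec.map _).base z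
      show PrimeSpectrum.comap (x.toRingHom.comp C.val.toRingHom) (IsLocalRing.closedPoint K) =
        PrimeSpectrum.comap C.val.toRingHom (PrimeSpectrum.comap x.toRingHom (h.left z))
      rw [PrimeSpectrum.comap_comp_apply]
      exact congrArg (fun w : PrimeSpectrum K => PrimeSpectrum.comap C.val.toRingHom (PrimeSpectrum.comap x.toRingHom w))
        (Subsingleton.elim _ _)⟩
    haveI : Flat (pullback.fst p c) := MorphismProperty.pullback_fst _ _ hflat
    have h1 := H T' (π ≫ h ≫ CoactBr.pt x) ⟨pullback.snd p c, (pullback.condition (f := p) (g := c)).symm.trans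
      (Category.assoc _ _ _).symm⟩ (π ≫ g) (by
        rw [← comp_lift, Category.assoc, hg])
    haveI : Epi (pullback.fst p c) := Flat.epi_of_flat_of_surjective _
    rw [← MonObj.comp_one π] at h1
    exact Over.OverMorphism.ext ((cancel_epi (pullback.fst p c)).1 (congrArg CommaMorphism.left h1))

end Groth.Agent.CoactOrbit
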