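import Groth.Agent.CoactOrbit.Orbit
import Groth.Agent.SekSuwaLib.Points
import Groth.Prelude.Def_CoactBr
import Groth.Prelude.Def_ChGrp
import Mathlib.RingTheory.LocalRing.Module
import Mathlib.RingTheory.Spectrum.Prime.Topology
import Mathlib.RingTheory.Support
import Mathlib.FieldTheory.IsAlgClosed.AlgebraicClosure
import Mathlib.RingTheory.Flat.FaithfullyFlat.Basic

/-!
# Inertia and stabilisers of finite group schemes
-/

set_option autoImplicit false
set_option backward.isDefEq.respectTransparency.types false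

universe u

open CategoryTheory MonoidalCategory CartesianMonoidalCategory MonObj AlgebraicGeometry
open scoped TensorProduct

noncomputable section

namespace Groth.Agent.CoactOrbit

open Groth.Agent.SekSuwaLib

variable {R A B : Type u} [CommRing R] [CommRing A] [HopfAlgebra R A] [CommRing B] [Algebra R B]
  [HopfRep.Comod R A B] [GLin.IsCoactAlg R A B]

/-- The point `x` moved by `γ`. -/
abbrev move {D : Type u} [CommRing D] [Algebra R D] (ξ : B →ₐ[R] D) (γ : A →ₐ[R] D) : B →ₐ[R] D :=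
  (Algebra.TensorProduct.lift ξ γ fun _ _ => .all _ _).comp (GLin.coactAlgHom R A B)

/-- The trivial point of the group. -/
abbrev triv (R A D : Type u) [CommRing R] [CommRing A] [Bialgebra R A] [CommRing D] [Algebra R D] : A →ₐ[R] D :=
  (Algebra.ofId R D).comp (Bialgebra.counitAlgHom R A)

variable (A) in
/-- The inertia of a point is trivial, on ring valued points. -/
def FreeAt {K : Type u} [CommRing K] [Algebra R K] (x : B →ₐ[R] K) : Prop :=
  ∀ (D : Type u) [CommRing D] [Algebra R D] (k : K →ₐ[R] D) (γ : A →ₐ[R] D),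
    move (k.comp x) γ = k.comp x → γ = triv R A D

variable (A) in
/-- The inertia of a point is trivial, on scheme valued points. -/
def SFreeAt {K : Type u} [CommRing K] [Algebra R K] (x : B →ₐ[R] K) : Prop :=
  ∀ (T : Over (Spec (CommRingCat.of R))) (h : T ⟶ CoactBr.sp R K) (g : T ⟶ CoactBr.sp R A),
    lift g (h ≫ CoactBr.pt x) ≫ (CoactBr.action R A B).act = h ≫ CoactBr.pt x → g = 1

/-- Every point factors through the spectrum of the functions on its source. -/
theorem exists_pt_eq {T : Over (Spec (CommRingCat.of R))} :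
    letI := algΓ T
    ∃ s : T ⟶ CoactBr.sp R Γ(T.left, ⊤),
      (∀ (C : Type u) [CommRing C] [Algebra R C] (y : T ⟶ CoactBr.sp R C),
        ∃ φ : C →ₐ[R] Γ(T.left, ⊤), s ≫ CoactBr.pt φ = y ∧ φ.toRingHom = ptRingHom y) ∧
      ∀ (C : Type u) [CommRing C] [Algebra R C] (φ ψ : C →ₐ[R] Γ(T.left, ⊤)),
        s ≫ CoactBr.pt φ = s ≫ CoactBr.pt ψ → φ = ψ := by
  letI := algΓ T
  let s : T ⟶ CoactBr.sp R Γ(T.left, ⊤) := ofRingHom (RingHom.id _) fun r => rfl
  have key : ∀ (C : Type u) [CommRing C] [Algebra R C] (φ : C →ₐ[R] Γ(T.left, ⊤)),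
      ptRingHom (s ≫ CoactBr.pt φ) = φ.toRingHom := by
    intro C _ _ φ
    refine RingHom.ext fun z => ?_
    rw [ptRingHom_comp s _ φ.toRingHom (CoactBr.pt_left φ), ptRingHom_ofRingHom]
    rfl
  refine ⟨s, fun C _ _ y => ?_, fun C _ _ φ ψ h => ?_⟩
  · let φ : C →ₐ[R] Γ(T.left, ⊤) := { ptRingHom y with commutes' := ptRingHom_algebraMap y }
    exact ⟨φ, ptRingHom_injective (key C φ), rfl⟩
  · exact AlgHom.coe_ringHom_injective ((key C φ).symm.trans ((congrArg ptRingHom h).trans (key C ψ)))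

theorem stab_iff {T : Over (Spec (CommRingCat.of R))} {D : Type u} [CommRing D] [Algebra R D]
    (s : T ⟶ CoactBr.sp R D) (ξ : B →ₐ[R] D) (γ : A →ₐ[R] D) :
    lift (s ≫ CoactBr.pt γ)⁻¹ (s ≫ CoactBr.pt ξ) ≫ (CoactBr.action R A B).act = s ≫ CoactBr.pt (move ξ γ) := by
  rw [CoactBr.lift_action_act, inv_inv, ← comp_lift, Category.assoc, CoactBr.lift_pt_ract]

/-- The two forms of trivial inertia agree. -/
theorem sfreeAt_iff {K : Type u} [CommRing K] [Algebra R K] {x : B →ₐ[R] K} : SFreeAt A x ↔ FreeAt A x := by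
  constructor
  · intro H D _ _ k γ hγ
    have h1 := H (CoactBr.sp R D) (CoactBr.pt k) (𝟙 _ ≫ CoactBr.pt γ)⁻¹ (by
      have e := stab_iff (A := A) (𝟙 (CoactBr.sp R D)) (k.comp x) γ
      rw [hγ, Category.id_comp, Category.id_comp] at e
      rw [Category.id_comp, ← CoactBr.pt_comp]
      exact e)
    rw [inv_eq_one, Category.id_comp, CoactBr.one_eq_pt] at h1
    exact CoactBr.pt_injective h1
  · intro H T h g hg
    letI := algΓ T
    obtain ⟨s, hex, hinj⟩ := exists_pt_eq (T := T)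
    obtain ⟨k, hk, -⟩ := hex K h
    obtain ⟨γ, hγ, -⟩ := hex A g⁻¹
    have e1 : h ≫ CoactBr.pt x = s ≫ CoactBr.pt (k.comp x) := by
      rw [← hk, Category.assoc, ← CoactBr.pt_comp]
    rw [e1, ← inv_inv g, ← hγ, stab_iff] at hg
    have h2 := H _ k γ (hinj _ _ _ hg)
    rw [h2, ← CoactBr.one_eq_pt, MonObj.comp_one] at hγ
    exact inv_eq_one.1 hγ.symm

theorem SFreeAt.of_comp {K L : Type u} [CommRing K] [Algebra R K] [CommRing L] [Algebra R L] {x : B →ₐ[R] K}
    (i : K →ₐ[R] L) (h : SFreeAt A x) : SFreeAt A (i.comp x) := by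
  intro T k g hg
  exact h T (k ≫ CoactBr.pt i) g (by rwa [Category.assoc, ← CoactBr.pt_comp])

/-- Trivial inertia descends along field extensions. -/
theorem FreeAt.of_field {K L : Type u} [Field K] [Algebra R K] [Field L] [Algebra R L] {x : B →ₐ[R] K}
    (i : K →ₐ[R] L) (h : FreeAt A (i.comp x)) : FreeAt A x := by
  intro D _ _ k γ hγ
  letI : Algebra K L := i.toRingHom.toAlgebra
  letI : Algebra K D := k.toRingHom.toAlgebra
  haveI : IsScalarTower R K L := IsScalarTower.of_algebraMap_eq fun r => (i.commutes r).symm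
  haveI : IsScalarTower R K D := IsScalarTower.of_algebraMap_eq fun r => (k.commutes r).symm
  let j : D →ₐ[R] L ⊗[K] D :=
    (Algebra.TensorProduct.includeRight : D →ₐ[K] L ⊗[K] D).restrictScalars R
  let k' : L →ₐ[R] L ⊗[K] D := Algebra.TensorProduct.includeLeft
  have hj : Function.Injective j :=
    Algebra.TensorProduct.includeRight_injective (RingHom.injective (algebraMap K L))
  have hkk : k'.comp i = j.comp k := AlgHom.ext fun c => by
    show (algebraMap K L c) ⊗ₜ[K] (1 : D) = (1 : L) ⊗ₜ[K] algebraMap K D c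
    rw [Algebra.algebraMap_eq_smul_one, TensorProduct.smul_tmul, ← Algebra.algebraMap_eq_smul_one]
  have e : move (k'.comp (i.comp x)) (j.comp γ) = k'.comp (i.comp x) := by
    rw [← AlgHom.comp_assoc, hkk, AlgHom.comp_assoc]
    conv_rhs => rw [← hγ]
    rw [move, move, ← AlgHom.comp_assoc]
    have hl : Algebra.TensorProduct.lift ((j.comp k).comp x) (j.comp γ) (fun a b => Commute.all _ _) =
        j.comp (Algebra.TensorProduct.lift (k.comp x) γ fun _ _ => .all _ _) :=
      Algebra.TensorProduct.ext' fun a b => by simp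
    exact congrArg (fun q : B ⊗[R] A →ₐ[R] L ⊗[K] D => q.comp (GLin.coactAlgHom R A B)) hl
  have h2 := h (L ⊗[K] D) k' (j.comp γ) e
  exact AlgHom.ext fun a => hj ((AlgHom.congr_fun h2 a).trans (j.commutes _).symm)

/-- Two fields over a ring with the same kernel have a common algebraically closed extension. -/
theorem exists_common_field {C K₁ K₂ : Type u} [CommRing C] [Field K₁] [Algebra C K₁] [Field K₂] [Algebra C K₂]
    (hq : RingHom.ker (algebraMap C K₁) = RingHom.ker (algebraMap C K₂)) :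
    ∃ (Ω : Type u) (_ : Field Ω) (_ : IsAlgClosed Ω) (i₁ : K₁ →+* Ω) (i₂ : K₂ →+* Ω),
      ∀ c, i₁ (algebraMap C K₁ c) = i₂ (algebraMap C K₂ c) := by
  let p := RingHom.ker (algebraMap C K₁)
  haveI : p.IsPrime := RingHom.ker_isPrime _
  let F := FractionRing (C ⧸ p)
  let f₁ : C ⧸ p →+* K₁ := Ideal.Quotient.lift p (algebraMap C K₁) fun a ha => ha
  let f₂ : C ⧸ p →+* K₂ := Ideal.Quotient.lift p (algebraMap C K₂) fun a ha => by
    have : a ∈ RingHom.ker (algebraMap C K₂) := hq ▸ ha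
    exact this
  have h₁ : Function.Injective f₁ := RingHom.lift_injective_of_ker_le_ideal p _ le_rfl
  have h₂ : Function.Injective f₂ := RingHom.lift_injective_of_ker_le_ideal p _ hq.ge
  let φ₁ : F →+* K₁ := IsFractionRing.lift h₁
  let φ₂ : F →+* K₂ := IsFractionRing.lift h₂
  letI := φ₁.toAlgebra
  letI := φ₂.toAlgebra
  haveI : Nontrivial (K₁ ⊗[F] K₂) :=
    (Algebra.TensorProduct.includeLeft_injective (R := F) (S := F) (A := K₁) (B := K₂)
      (RingHom.injective (algebraMap F K₂))).nontrivial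
  obtain ⟨m, hm⟩ := Ideal.exists_maximal (K₁ ⊗[F] K₂)
  letI : Field ((K₁ ⊗[F] K₂) ⧸ m) := Ideal.Quotient.field m
  refine ⟨AlgebraicClosure ((K₁ ⊗[F] K₂) ⧸ m), inferInstance, inferInstance,
    ((algebraMap ((K₁ ⊗[F] K₂) ⧸ m) _).comp (Ideal.Quotient.mk m)).comp
      (Algebra.TensorProduct.includeLeft : K₁ →ₐ[F] K₁ ⊗[F] K₂).toRingHom,
    ((algebraMap ((K₁ ⊗[F] K₂) ⧸ m) _).comp (Ideal.Quotient.mk m)).comp
      (Algebra.TensorProduct.includeRight : K₂ →ₐ[F] K₁ ⊗[F] K₂).toRingHom, fun c => ?_⟩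
  have e₁ : algebraMap C K₁ c = algebraMap F K₁ (algebraMap (C ⧸ p) F (Ideal.Quotient.mk p c)) :=
    (IsFractionRing.lift_algebraMap (K := F) h₁ (Ideal.Quotient.mk p c)).symm
  have e₂ : algebraMap C K₂ c = algebraMap F K₂ (algebraMap (C ⧸ p) F (Ideal.Quotient.mk p c)) :=
    (IsFractionRing.lift_algebraMap (K := F) h₂ (Ideal.Quotient.mk p c)).symm
  simp only [RingHom.comp_apply, AlgHom.toRingHom_eq_coe, RingHom.coe_coe]
  rw [e₁, e₂, AlgHom.commutes, AlgHom.commutes]

variable [Module.Finite R A] [Module.Projective R A]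

/-- Geometric points over one point of the quotient have conjugate inertia. -/
theorem exists_conj {K : Type u} [Field K] [IsAlgClosed K] [Algebra R K] (x₁ x₂ : B →ₐ[R] K)
    (hC : ∀ c ∈ GLin.invariants R A B, x₁ c = x₂ c) :
    ∃ g : CoactBr.sp R K ⟶ CoactBr.sp R A,
      ∀ (T : Over (Spec (CommRingCat.of R))) (h : T ⟶ CoactBr.sp R K) (k : T ⟶ CoactBr.sp R A),
        lift k (h ≫ CoactBr.pt x₁) ≫ (CoactBr.action R A B).act = h ≫ CoactBr.pt x₁ ↔
          lift ((h ≫ g)⁻¹ * k * (h ≫ g)) (h ≫ CoactBr.pt x₂) ≫ (CoactBr.action R A B).act =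
            h ≫ CoactBr.pt x₂ := by
  obtain ⟨γ, hγ⟩ := exists_orbit x₁ x₂ hC
  refine ⟨CoactBr.pt γ, fun T h k => ?_⟩
  have e : h ≫ CoactBr.pt x₂ = lift (h ≫ CoactBr.pt γ)⁻¹ (h ≫ CoactBr.pt x₁) ≫ (CoactBr.action R A B).act := by
    rw [stab_iff, hγ]
  rw [e, ← AlgGrp.Action.lift_mul_act, mul_inv_cancel_right, AlgGrp.Action.lift_mul_act]
  constructor
  · intro he
    rw [he]
  · intro he
    have e2 := congrArg (fun z => lift (h ≫ CoactBr.pt γ) z ≫ (CoactBr.action R A B).act) he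
    simp only [← AlgGrp.Action.lift_mul_act, mul_inv_cancel_left, mul_inv_cancel, AlgGrp.Action.lift_one_act] at e2
    exact e2

theorem sfreeAt_of_conj {K : Type u} [Field K] [IsAlgClosed K] [Algebra R K] {x₁ x₂ : B →ₐ[R] K}
    (hC : ∀ c ∈ GLin.invariants R A B, x₁ c = x₂ c) (h₁ : SFreeAt A x₁) : SFreeAt A x₂ := by
  obtain ⟨g, hg⟩ := exists_conj (A := A) x₁ x₂ hC
  intro T h k hk
  have e : (h ≫ g)⁻¹ * ((h ≫ g) * k * (h ≫ g)⁻¹) * (h ≫ g) = k := by
    rw [mul_assoc (h ≫ g), inv_mul_cancel_left, inv_mul_cancel_right]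
  have h2 := h₁ T h _ ((hg T h ((h ≫ g) * k * (h ≫ g)⁻¹)).2 (by rw [e]; exact hk))
  rw [← e, h2, _root_.mul_one, inv_mul_cancel]

/-- Trivial inertia only depends on the image in the quotient. -/
theorem sfreeAt_transfer {K₁ K₂ : Type u} [Field K₁] [Algebra R K₁] [Field K₂] [Algebra R K₂]
    {x₁ : B →ₐ[R] K₁} {x₂ : B →ₐ[R] K₂}
    (hq : RingHom.ker (x₁.comp (GLin.invariants R A B).val).toRingHom =
      RingHom.ker (x₂.comp (GLin.invariants R A B).val).toRingHom)
    (h₁ : SFreeAt A x₁) : SFreeAt A x₂ := by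
  letI := (x₁.comp (GLin.invariants R A B).val).toRingHom.toAlgebra
  letI := (x₂.comp (GLin.invariants R A B).val).toRingHom.toAlgebra
  obtain ⟨Ω, _, _, i₁, i₂, hi⟩ := exists_common_field (C := GLin.invariants R A B) (K₁ := K₁) (K₂ := K₂) hq
  letI : Algebra R Ω := (i₁.comp (algebraMap R K₁)).toAlgebra
  let j₁ : K₁ →ₐ[R] Ω := { i₁ with commutes' := fun r => rfl }
  let j₂ : K₂ →ₐ[R] Ω :=
    { i₂ with
      commutes' := fun r => by
        show i₂ (algebraMap R K₂ r) = i₁ (algebraMap R K₁ r)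
        rw [← (x₂.comp (GLin.invariants R A B).val).commutes r, ← (x₁.comp (GLin.invariants R A B).val).commutes r]
        exact (hi (algebraMap R _ r)).symm }
  exact sfreeAt_iff.2 (FreeAt.of_field j₂ (sfreeAt_iff.1 (sfreeAt_of_conj (x₁ := j₁.comp x₁)
    (fun c hc => hi ⟨c, hc⟩) (h₁.of_comp j₁))))

omit [Module.Projective R A] in
set_option backward.isDefEq.respectTransparency false in
/-- The locus of non trivial inertia is closed and the action is free off it. -/
theorem exists_inertia_locus :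
    ∃ Z : Set (PrimeSpectrum B), IsClosed Z ∧
      (∀ m : PrimeSpectrum B, FreeAt A (IsScalarTower.toAlgHom R B m.asIdeal.ResidueField) → m ∉ Z) ∧
      ∀ (c : B), Z ⊆ PrimeSpectrum.zeroLocus {c} → ∀ (T : Over (Spec (CommRingCat.of R))) (ζ : T ⟶ CoactBr.sp R B),
        IsUnit (ptRingHom ζ c) → ∀ g : T ⟶ CoactBr.sp R A, lift g ζ ≫ (CoactBr.action R A B).act = ζ → g = 1 := by
  classical
  let J : Ideal (B ⊗[R] A) := Ideal.span (Set.range fun b : B => GLin.coactAlgHom R A B b - b ⊗ₜ[R] (1 : A))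
  let M := (B ⊗[R] A) ⧸ J
  let mkJ : B ⊗[R] A →ₐ[B] M := Ideal.Quotient.mkₐ B J
  have hJ : ∀ b : B, mkJ (GLin.coactAlgHom R A B b) = algebraMap B M b := fun b => by
    rw [← mkJ.commutes]
    exact Ideal.Quotient.eq.2 (Ideal.subset_span ⟨b, rfl⟩)
  haveI : Module.Finite B M := Module.Finite.of_surjective mkJ.toLinearMap Ideal.Quotient.mk_surjective
  let N : Submodule B M := LinearMap.range (Algebra.linearMap B M)
  refine ⟨Module.support B (M ⧸ N), by rw [Module.support_eq_zeroLocus]; exact PrimeSpectrum.isClosed_zeroLocus _, fun m hfree' hm => ?_, fun c hsupp T ζ hc g hg => ?_⟩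
  · show False
    rw [Module.mem_support_iff_nontrivial_residueField_tensorProduct] at hm
    let κ := m.asIdeal.ResidueField
    let i : B ⊗[R] A →ₐ[R] κ ⊗[B] M :=
      ((Algebra.TensorProduct.includeRight : M →ₐ[B] κ ⊗[B] M).comp mkJ).restrictScalars R
    let k : κ →ₐ[R] κ ⊗[B] M := Algebra.TensorProduct.includeLeft
    let γ : A →ₐ[R] κ ⊗[B] M := i.comp Algebra.TensorProduct.includeRight
    have hkx : k.comp (IsScalarTower.toAlgHom R B κ) = i.comp Algebra.TensorProduct.includeLeft :=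
      AlgHom.ext fun b => by
        show (algebraMap B κ b) ⊗ₜ[B] (1 : M) = (1 : κ) ⊗ₜ[B] mkJ (b ⊗ₜ[R] (1 : A))
        rw [show mkJ (b ⊗ₜ[R] (1 : A)) = algebraMap B M b from mkJ.commutes b, Algebra.algebraMap_eq_smul_one,
          Algebra.algebraMap_eq_smul_one, TensorProduct.smul_tmul]
    have hγ := hfree' (κ ⊗[B] M) k γ (by
      rw [hkx]
      have e : (Algebra.TensorProduct.lift (i.comp Algebra.TensorProduct.includeLeft) γ (fun a b => @Commute.all (κ ⊗[B] M) inferInstance _ _)) = i :=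
        Algebra.TensorProduct.ext' fun a b => by simp [γ, ← map_mul]
      rw [move, e]
      refine AlgHom.ext fun b => congrArg (fun w => (1 : κ) ⊗ₜ[B] w) ?_
      exact (hJ b).trans (mkJ.commutes b).symm)
    have hall : ∀ z : κ ⊗[B] (M ⧸ N), z = 0 := by
      intro z
      induction z using TensorProduct.induction_on with
      | zero => rfl
      | add p q hp hq => rw [hp, hq, add_zero]
      | tmul u w =>
        obtain ⟨w, rfl⟩ := Submodule.Quotient.mk_surjective N w
        obtain ⟨w, rfl⟩ := Ideal.Quotient.mk_surjective w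
        induction w using TensorProduct.induction_on with
        | zero => simp
        | add p q hp hq => rw [map_add, Submodule.Quotient.mk_add, TensorProduct.tmul_add, hp, hq, add_zero]
        | tmul b a =>
          have h1 : (1 : κ) ⊗ₜ[B] (N.mkQ (mkJ ((1 : B) ⊗ₜ[R] a))) = 0 := by
            have h2 := congrArg ((N.mkQ).lTensor κ) (AlgHom.congr_fun hγ a)
            refine h2.trans ?_
            rw [show triv R A (κ ⊗[B] M) a = algebraMap R (κ ⊗[B] M) (Coalgebra.counit (R := R) a) from by simp only [triv, AlgHom.comp_apply, Algebra.ofId_apply]; rfl,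
              IsScalarTower.algebraMap_apply R B (κ ⊗[B] M),
              Algebra.algebraMap_eq_smul_one (R := B) (A := κ ⊗[B] M), map_smul, Algebra.TensorProduct.one_def,
              LinearMap.lTensor_tmul, show N.mkQ (1 : M) = 0 from (Submodule.Quotient.mk_eq_zero N).2
                ⟨1, by simp⟩, TensorProduct.tmul_zero, smul_zero]
          have e : Ideal.Quotient.mk J (b ⊗ₜ[R] a) = b • mkJ ((1 : B) ⊗ₜ[R] a) := by
            rw [← map_smul, TensorProduct.smul_tmul', smul_eq_mul, _root_.mul_one]; rfl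
          show u ⊗ₜ[B] (N.mkQ (Ideal.Quotient.mk J (b ⊗ₜ[R] a))) = 0
          rw [e, map_smul, ← TensorProduct.smul_tmul, ← _root_.mul_one (b • u), ← smul_eq_mul (b • u),
            ← TensorProduct.smul_tmul', h1, smul_zero]
    exact not_subsingleton _ (⟨fun p q => (hall p).trans (hall q).symm⟩ : Subsingleton (κ ⊗[B] (M ⧸ N)))
  rw [Module.support_eq_zeroLocus, ← PrimeSpectrum.zeroLocus_span ({c} : Set B),
    PrimeSpectrum.zeroLocus_subset_zeroLocus_iff] at hsupp
  obtain ⟨n, hn⟩ := hsupp (Ideal.mem_span_singleton_self c)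
  letI := algΓ T
  obtain ⟨s, hex, hinj⟩ := exists_pt_eq (T := T)
  obtain ⟨ξ, hξ, hξ'⟩ := hex B ζ
  obtain ⟨γ, hγ, -⟩ := hex A g⁻¹
  rw [← hξ, ← inv_inv g, ← hγ, stab_iff] at hg
  have hfix : move ξ γ = ξ := hinj _ _ _ hg
  let evT : B ⊗[R] A →ₐ[R] Γ(T.left, ⊤) := Algebra.TensorProduct.lift ξ γ fun _ _ => .all _ _
  have hJ' : J ≤ RingHom.ker evT := Ideal.span_le.2 (by
    rintro _ ⟨b, rfl⟩
    rw [SetLike.mem_coe, RingHom.mem_ker, map_sub, sub_eq_zero]
    exact (AlgHom.congr_fun hfix b).trans (by simp [evT]))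
  let ε : B ⊗[R] A →ₐ[R] B := Algebra.TensorProduct.lift (AlgHom.id R B) (triv R A B) fun _ _ => .all _ _
  have hJε : J ≤ RingHom.ker ε := Ideal.span_le.2 (by
    rintro _ ⟨b, rfl⟩
    rw [SetLike.mem_coe, RingHom.mem_ker, map_sub, sub_eq_zero]
    exact (counit_coact b).trans (by simp [ε]))
  have hone : γ = triv R A Γ(T.left, ⊤) := by
    refine AlgHom.ext fun a => ?_
    let w : B ⊗[R] A := (1 : B) ⊗ₜ[R] a - algebraMap R B (Coalgebra.counit (R := R) a) ⊗ₜ[R] (1 : A)
    obtain ⟨b, hb⟩ : ∃ b, algebraMap B M b = c ^ n • mkJ w := by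
      have := Module.mem_annihilator.1 hn (N.mkQ (mkJ w))
      rw [← map_smul] at this
      exact (Submodule.Quotient.mk_eq_zero N).1 this
    have hb' : (b ⊗ₜ[R] (1 : A)) - c ^ n • w ∈ J := Ideal.Quotient.eq.1 (by
      show mkJ (b ⊗ₜ[R] (1 : A)) = mkJ (c ^ n • w)
      rw [map_smul, ← hb]; exact mkJ.commutes b)
    have e1 := hJε hb'
    have e2 := hJ' hb'
    rw [RingHom.mem_ker, map_sub, sub_eq_zero, Algebra.smul_def, map_mul,
      Algebra.TensorProduct.algebraMap_apply, Algebra.algebraMap_self_apply] at e1 e2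
    simp [ε, w] at e1
    simp only [evT, w, map_sub, Algebra.TensorProduct.lift_tmul, map_one, _root_.mul_one, _root_.one_mul, e1, map_zero,
      AlgHom.commutes] at e2
    have hu : IsUnit (ξ (c ^ n)) := by
      rw [map_pow]
      refine IsUnit.pow n ?_
      rw [show ξ c = ξ.toRingHom c from rfl, hξ']
      exact hc
    exact sub_eq_zero.1 (hu.mul_right_eq_zero.1 e2.symm)
  rw [hone, ← CoactBr.one_eq_pt, MonObj.comp_one] at hγ
  exact inv_eq_one.1 hγ.symm

end Groth.Agent.CoactOrbit
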